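import Groth.Agent.PolLib.FlatTS
import Groth.Agent.FBaseLib.Reduced

/-!
# Geometric fibres of divided powers of a flat algebra with reduced geometric fibres are reduced
-/

set_option autoImplicit false
set_option backward.isDefEq.respectTransparency false
set_option backward.isDefEq.respectTransparency.types false
set_option linter.style.haveILetI false

universe u

open scoped TensorProduct

namespace Groth.Agent.H9GammaRed

open PolLib PolLaw

variable {A : Type u} [CommRing A] {B : Type u} [CommRing B] [Algebra A B]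

/-- Splitting off the last factor is multiplicative. -/
theorem join_mul (d : ℕ) (x y : (⨂[A]^d B) ⊗[A] B) :
    join A B d (x * y) = join A B d x * join A B d y := by
  have h : ∀ (a b : Fin d → B) (s t : B),
      join A B d ((PiTensorProduct.tprod A a ⊗ₜ[A] s) * (PiTensorProduct.tprod A b ⊗ₜ[A] t)) =
        join A B d (PiTensorProduct.tprod A a ⊗ₜ[A] s) * join A B d (PiTensorProduct.tprod A b ⊗ₜ[A] t) := by
    intro a b s t
    rw [Algebra.TensorProduct.tmul_mul_tmul, PiTensorProduct.tprod_mul_tprod, join_tmul, join_tmul, join_tmul,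
      PiTensorProduct.tprod_mul_tprod]
    congr 1
    funext i
    refine Fin.addCases (fun j => ?_) (fun j => ?_) i <;>
      simp only [Pi.mul_apply, Fin.append_left, Fin.append_right]
  induction x using TensorProduct.induction_on with
  | zero => rw [zero_mul, map_zero, zero_mul]
  | add u v hu hv => rw [add_mul, map_add, hu, hv, map_add, add_mul]
  | tmul p s =>
    induction y using TensorProduct.induction_on with
    | zero => rw [mul_zero, map_zero, mul_zero]
    | add u v hu hv => rw [mul_add, map_add, hu, hv, map_add, mul_add]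
    | tmul q t =>
      induction p using PiTensorProduct.induction_on with
      | add u v hu hv => simp only [TensorProduct.add_tmul, map_add, add_mul, hu, hv]
      | smul_tprod r a =>
        induction q using PiTensorProduct.induction_on with
        | add u v hu hv => simp only [TensorProduct.add_tmul, map_add, mul_add, hu, hv]
        | smul_tprod r' b =>
          simp only [← TensorProduct.smul_tmul', map_smul, smul_mul_assoc, mul_smul_comm, h]

/-- `⊗^d B ⊗ B ≅ ⊗^(d+1) B` as algebras. -/
noncomputable def joinAlg (d : ℕ) : (⨂[A]^d B) ⊗[A] B ≃ₐ[A] ⨂[A]^(d + 1) B :=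
  AlgEquiv.ofLinearEquiv (join A B d)
    (by
      rw [Algebra.TensorProduct.one_def]
      refine (join_tmul d (1 : Fin d → B) 1).trans (congrArg (PiTensorProduct.tprod A) ?_)
      funext i
      refine Fin.addCases (fun j => ?_) (fun j => ?_) i <;>
        simp only [Pi.one_apply, Fin.append_left, Fin.append_right])
    (join_mul d)

theorem isReduced_tensorPower (L : Type u) [Field L] [IsAlgClosed L] [Algebra A L]
    [IsReduced (L ⊗[A] B)] : ∀ d : ℕ, IsReduced (L ⊗[A] ⨂[A]^d B) := by
  intro d
  induction d with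
  | zero =>
    let e : (⨂[A]^0 B) ≃ₗ[A] A := PiTensorProduct.isEmptyEquiv (Fin 0)
    let eA : A ≃ₐ[A] ⨂[A]^0 B := AlgEquiv.ofBijective (Algebra.ofId A _) (by
      have : ∀ a : A, Algebra.ofId A (⨂[A]^0 B) a = e.symm a := fun a => by
        rw [Algebra.ofId_apply, Algebra.algebraMap_eq_smul_one, PiTensorProduct.isEmptyEquiv_symm_apply]
        exact congrArg (fun v => a • PiTensorProduct.tprod A v) (funext fun i => i.elim0)
      rw [show ⇑(Algebra.ofId A (⨂[A]^0 B)) = e.symm from funext this]
      exact e.symm.bijective)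
    let e' : L ⊗[A] (⨂[A]^0 B) ≃ₐ[A] L :=
      (Algebra.TensorProduct.congr (AlgEquiv.refl : L ≃ₐ[A] L) eA.symm).trans
        ((Algebra.TensorProduct.rid A A L).restrictScalars A)
    exact isReduced_of_injective e' e'.injective
  | succ d ih =>
    haveI : IsReduced ((L ⊗[A] ⨂[A]^d B) ⊗[L] (L ⊗[A] B)) :=
      FBaseLib.isReduced_tensor_of_fields (L ⊗[A] B) (L ⊗[A] ⨂[A]^d B) fun L' _ _ =>
        FBaseLib.isReduced_field_tensor_of_isAlgClosed _ L'
    let e : (L ⊗[A] ⨂[A]^(d + 1) B) ≃ₐ[A] (L ⊗[A] ⨂[A]^d B) ⊗[L] (L ⊗[A] B) :=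
      (Algebra.TensorProduct.congr (AlgEquiv.refl : L ≃ₐ[A] L) (joinAlg d).symm).trans
        ((Algebra.TensorProduct.assoc A A A L (⨂[A]^d B) B).symm.trans
          ((Algebra.TensorProduct.cancelBaseChange A L (L ⊗[A] ⨂[A]^d B) (L ⊗[A] ⨂[A]^d B) B).symm.restrictScalars A))
    exact isReduced_of_injective e e.injective

variable [Module.Flat A B] {C : Type u} [CommRing C] [Algebra A C] {d : ℕ}

/-- `K ⊗ Γ^d(B) → K ⊗ ⊗^d B` is injective for every module `K`. -/
theorem lTensor_injective (γ : MulLaw A B C d) (hγ : IsGammaD γ) (φ : C →ₐ[A] SymTen.TS A B d)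
    (hφ : ∀ (S : Type u) [CommSemiring S] [Algebra A S] (x : S ⊗[A] B),
      bc ((SymTen.TS A B d).val.comp φ) S (ev γ S x) = (SymTen.tpowLaw A B d).law.toFun' S x)
    (K : Type u) [AddCommGroup K] [Module A K] :
    Function.Injective (((SymTen.TS A B d).val.comp φ).toLinearMap.lTensor K) := by
  classical
  set f := ((SymTen.TS A B d).val.comp φ).toLinearMap with hf
  have hfinj : Function.Injective f :=
    Subtype.val_injective.comp (phi_injective_of_flat γ φ hφ hγ)
  refine (injective_iff_map_eq_zero _).2 fun z hz => ?_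
  obtain ⟨S, hS⟩ := TensorProduct.exists_finset z
  let s : Fin S.card → K := fun a => (S.equivFin.symm a).1.1
  let c : Fin S.card → C := fun a => (S.equivFin.symm a).1.2
  have hzs : z = ∑ a, s a ⊗ₜ[A] c a := by
    rw [hS, ← Finset.sum_coe_sort, ← S.equivFin.symm.sum_comp]
  obtain ⟨n, g, t, ht, hgt⟩ := exists_invariant_lift_family (fun a => f (c a))
    (fun a σ => (φ (c a)).2 σ)
  have h0 : (tp d g).lTensor K (∑ a, s a ⊗ₜ[A] t a) = 0 := by
    rw [← hz, hzs, map_sum, map_sum]
    exact Finset.sum_congr rfl fun a _ => by rw [LinearMap.lTensor_tmul, LinearMap.lTensor_tmul, hgt]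
  obtain ⟨m, h, g', hg', hh⟩ := kill d K n g _ h0
  haveI : Finite (Orb (Fin m) d) := Finite.of_surjective cls cls_surjective
  let _ := Fintype.ofFinite (Orb (Fin m) d)
  have horb : ∀ q, ∃ e : C, f e = tp d g' ((SymTen.TS A (Fin m → A) d).val (orb (Pi.basisFun A (Fin m)) q)) := by
    intro q
    obtain ⟨e, he⟩ := phi_surjective_of_flat γ φ hφ
      ⟨tp d g' ((SymTen.TS A (Fin m → A) d).val (orb (Pi.basisFun A (Fin m)) q)), fun σ => by
        rw [← tp_reindex]
        exact congrArg _ ((orb (Pi.basisFun A (Fin m)) q).2 σ)⟩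
    exact ⟨e, congrArg Subtype.val he⟩
  choose e he using horb
  let co : Orb (Fin m) d → (⨂[A]^d (Fin m → A)) →ₗ[A] A := fun q =>
    (beta (Pi.basisFun A (Fin m)) d).coord (rep q)
  have hc : ∀ a, c a = ∑ q, co q (tp d h (t a)) • e q := fun a => by
    refine hfinj ?_
    rw [← hgt a, ← hg', tp_comp, LinearMap.comp_apply, map_sum,
      eq_sum_orb (tp d h (t a)) (fun σ => by rw [← tp_reindex, ht]), map_sum]
    exact Finset.sum_congr rfl fun q _ => by
      rw [map_smul, map_smul, he, ← eq_sum_orb (tp d h (t a)) (fun σ => by rw [← tp_reindex, ht])]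
  have hsum : ∀ q, ∑ a, co q (tp d h (t a)) • s a = 0 := fun q => by
    have := congrArg ((TensorProduct.rid A K).toLinearMap ∘ₗ (co q).lTensor K) hh
    simpa [map_sum] using this
  rw [hzs]
  calc ∑ a, s a ⊗ₜ[A] c a = ∑ a, ∑ q, (co q (tp d h (t a)) • s a) ⊗ₜ[A] e q :=
        Finset.sum_congr rfl fun a _ => by
          rw [hc, TensorProduct.tmul_sum]
          exact Finset.sum_congr rfl fun q _ => by rw [TensorProduct.smul_tmul]
    _ = 0 := by
          rw [Finset.sum_comm]
          exact Finset.sum_eq_zero fun q _ => by rw [← TensorProduct.sum_tmul, hsum, TensorProduct.zero_tmul]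

theorem main (γ : MulLaw A B C d) (hγ : IsGammaD γ)
    (hred : ∀ (K : Type u) [Field K] [Algebra A K], IsReduced (K ⊗[A] B))
    (K : Type u) [Field K] [Algebra A K] : IsReduced (K ⊗[A] C) := by
  let L := AlgebraicClosure K
  obtain ⟨φ, hφ⟩ := exists_gammaD_tsMap γ hγ
  haveI := hred L
  haveI := isReduced_tensorPower (A := A) (B := B) L d
  haveI : Module.Flat A C := flat_gamma hγ
  haveI : IsReduced (L ⊗[A] C) :=
    isReduced_of_injective (Algebra.TensorProduct.map (AlgHom.id A L) ((SymTen.TS A B d).val.comp φ))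
      (lTensor_injective γ hγ φ hφ L)
  exact isReduced_of_injective (Algebra.TensorProduct.map (IsScalarTower.toAlgHom A K L) (AlgHom.id A C))
    (Module.Flat.rTensor_preserves_injective_linearMap (IsScalarTower.toAlgHom A K L).toLinearMap
      (RingHom.injective _))

end Groth.Agent.H9GammaRed
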